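import Mathlib.RingTheory.Nilpotent.GeometricallyReduced
import Mathlib.RingTheory.Jacobson.Ring
import Mathlib.RingTheory.Nullstellensatz
import Mathlib.LinearAlgebra.TensorProduct.Basis
import Mathlib.RingTheory.Localization.BaseChange
import Mathlib.RingTheory.LocalProperties.Reduced

/-!
Geometrically reduced algebras: tensor with arbitrary fields; jointly injective families.
-/

universe u v w

open TensorProduct

set_option linter.style.haveILetI false

namespace Groth.Agent.GeomRed21

variable {k : Type u} [Field k]

theorem eq_zero_of_lTensor {B : Type v} [AddCommGroup B] [Module k B] {A : Type w} [AddCommGroup A] [Module k A]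
    {ι : Type*} {M : ι → Type*} [∀ i, AddCommGroup (M i)] [∀ i, Module k (M i)] (φ : ∀ i, A →ₗ[k] M i)
    (hφ : ∀ a, (∀ i, φ i a = 0) → a = 0) {z : B ⊗[k] A} (hz : ∀ i, (φ i).lTensor B z = 0) : z = 0 := by
  let b := Module.Free.chooseBasis k B
  refine (TensorProduct.equivFinsuppOfBasisLeft b).injective (Finsupp.ext fun j => hφ _ fun i => ?_)
  have h : ∀ z : B ⊗[k] A, φ i (TensorProduct.equivFinsuppOfBasisLeft b z j) =
      TensorProduct.equivFinsuppOfBasisLeft b ((φ i).lTensor B z) j := by
    intro z
    induction z using TensorProduct.induction_on with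
    | zero => simp
    | tmul x y => simp [TensorProduct.equivFinsuppOfBasisLeft_apply_tmul_apply]
    | add x y hx hy => simp [hx, hy]
  rw [h, hz i]
  simp

theorem isReduced_tensor_of_jointly_injective {B : Type v} [CommRing B] [Algebra k B] {A : Type w} [CommRing A]
    [Algebra k A] {ι : Type*} {M : ι → Type*} [∀ i, CommRing (M i)] [∀ i, Algebra k (M i)] (φ : ∀ i, A →ₐ[k] M i)
    (hφ : ∀ a, (∀ i, φ i a = 0) → a = 0) (h : ∀ i, IsReduced (B ⊗[k] M i)) : IsReduced (B ⊗[k] A) := by
  refine ⟨fun z hz => eq_zero_of_lTensor (fun i => (φ i).toLinearMap) hφ fun i => ?_⟩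
  exact ((hz.map (Algebra.TensorProduct.map (AlgHom.id k B) (φ i))).eq_zero :)

theorem isGeometricallyReduced_of_jointly_injective {A : Type w} [CommRing A] [Algebra k A] {ι : Type*}
    {M : ι → Type*} [∀ i, CommRing (M i)] [∀ i, Algebra k (M i)] (φ : ∀ i, A →ₐ[k] M i)
    (hφ : ∀ a, (∀ i, φ i a = 0) → a = 0) [h : ∀ i, Algebra.IsGeometricallyReduced k (M i)] :
    Algebra.IsGeometricallyReduced k A := by
  rw [Algebra.isGeometricallyReduced_field_iff]
  exact isReduced_tensor_of_jointly_injective φ hφ fun i => (Algebra.isGeometricallyReduced_field_iff k (M i)).1 (h i)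

/-- over an algebraically closed field, reduced tensor reduced is reduced -/
theorem isReduced_tensor_of_isAlgClosed [IsAlgClosed k] (B : Type v) [CommRing B] [Algebra k B] [IsReduced B]
    (A : Type w) [CommRing A] [Algebra k A] [IsReduced A] : IsReduced (B ⊗[k] A) := by
  refine IsReduced.tensorProduct_of_flat_of_forall_fg fun C hC => ?_
  have : Algebra.FiniteType k C := ⟨C.fg_top.2 hC⟩
  have : IsReduced C := isReduced_of_injective C.val Subtype.val_injective
  have : IsJacobsonRing C := isJacobsonRing_of_finiteType (A := k) (B := C)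
  let e : ∀ m : MaximalSpectrum C, C →ₐ[k] k := fun m =>
    (AlgEquiv.ofBijective (Algebra.ofId k (C ⧸ m.asIdeal)) (by
      haveI := m.isMaximal
      letI := Ideal.Quotient.field m.asIdeal
      haveI := finite_of_finite_type_of_isJacobsonRing k (C ⧸ m.asIdeal)
      exact IsAlgClosed.algebraMap_bijective_of_isIntegral)).symm.toAlgHom.comp (Ideal.Quotient.mkₐ k m.asIdeal)
  refine isReduced_tensor_of_jointly_injective e (fun a ha => ?_) fun _ =>
    isReduced_of_injective (Algebra.TensorProduct.rid k k B) (Algebra.TensorProduct.rid k k B).injective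
  have h : a ∈ (⊥ : Ideal C).jacobson := by
    refine Submodule.mem_sInf.2 fun m hm => ?_
    have h' := ha ⟨m, hm.2⟩
    refine Ideal.Quotient.eq_zero_iff_mem.1 ?_
    simpa [e] using h'
  rw [IsJacobsonRing.out ‹IsJacobsonRing C› (I := (⊥ : Ideal C)) (fun x hx => by
    obtain ⟨n, hn⟩ := hx
    exact (Submodule.mem_bot _).2 (IsReduced.eq_zero x ⟨n, (Submodule.mem_bot _).1 hn⟩))] at h
  exact (Submodule.mem_bot _).1 h

/-- base change of a geometrically reduced algebra to any field is reduced -/
theorem isReduced_tensor_field (A : Type u) [CommRing A] [Algebra k A] [Algebra.IsGeometricallyReduced k A]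
    (L : Type u) [Field L] [Algebra k L] : IsReduced (L ⊗[k] A) := by
  let L' := AlgebraicClosure L
  let j : AlgebraicClosure k →ₐ[k] L' := IsAlgClosed.lift
  letI := j.toRingHom.toAlgebra
  haveI : IsScalarTower k (AlgebraicClosure k) L' := IsScalarTower.of_algebraMap_eq fun x => (j.commutes x).symm
  haveI : IsReduced (AlgebraicClosure k ⊗[k] A) := (Algebra.isGeometricallyReduced_field_iff k A).1 ‹_›
  haveI : IsReduced (L' ⊗[AlgebraicClosure k] (AlgebraicClosure k ⊗[k] A)) :=
    isReduced_tensor_of_isAlgClosed (k := AlgebraicClosure k) L' _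
  haveI : IsReduced (L' ⊗[k] A) :=
    isReduced_of_injective (Algebra.TensorProduct.cancelBaseChange k (AlgebraicClosure k) L' L' A).symm
      (Algebra.TensorProduct.cancelBaseChange k (AlgebraicClosure k) L' L' A).symm.injective
  exact isReduced_of_injective (Algebra.TensorProduct.map (IsScalarTower.toAlgHom k L L') (AlgHom.id k A))
    (Module.Flat.rTensor_preserves_injective_linearMap (IsScalarTower.toAlgHom k L L').toLinearMap
      (algebraMap L L').injective)

theorem isReduced_tensor_field' (A : Type u) [CommRing A] [Algebra k A] [Algebra.IsGeometricallyReduced k A]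
    (L : Type u) [Field L] [Algebra k L] : IsReduced (A ⊗[k] L) :=
  have := isReduced_tensor_field (k := k) A L
  isReduced_of_injective (Algebra.TensorProduct.comm k A L) (Algebra.TensorProduct.comm k A L).injective

/-- localizations of geometrically reduced algebras are geometrically reduced -/
theorem isGeometricallyReduced_of_isLocalization {A : Type u} [CommRing A] [Algebra k A] (M : Submonoid A)
    (B : Type u) [CommRing B] [Algebra k B] [Algebra A B] [IsScalarTower k A B] [IsLocalization M B]
    [Algebra.IsGeometricallyReduced k A] : Algebra.IsGeometricallyReduced k B := by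
  rw [Algebra.isGeometricallyReduced_field_iff]
  let K := AlgebraicClosure k
  let f := Algebra.TensorProduct.map (IsScalarTower.toAlgHom k A B) (AlgHom.id k K)
  letI : Algebra (A ⊗[k] K) (B ⊗[k] K) := f.toRingHom.toAlgebra
  haveI : IsScalarTower A (A ⊗[k] K) (B ⊗[k] K) := IsScalarTower.of_algebraMap_eq fun a => by
    show algebraMap A B a ⊗ₜ[k] (1 : K) = f (a ⊗ₜ[k] (1 : K))
    simp [f]
  haveI : IsLocalization (Algebra.algebraMapSubmonoid (A ⊗[k] K) M) (B ⊗[k] K) :=
    IsLocalization.tensorProduct_tensorProduct k K M B (RingHom.ext fun x => by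
      show f ((1 : A) ⊗ₜ[k] x) = _
      simp [f])
  haveI : IsReduced (A ⊗[k] K) := isReduced_tensor_field' (k := k) A K
  haveI : IsReduced (B ⊗[k] K) :=
    isReduced_localizationPreserves (Algebra.algebraMapSubmonoid (A ⊗[k] K) M) (B ⊗[k] K) inferInstance
  exact isReduced_of_injective (Algebra.TensorProduct.comm k K B) (Algebra.TensorProduct.comm k K B).injective

end Groth.Agent.GeomRed21
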