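import Groth.Agent.Lib.GeomRed21.Locus
import Mathlib.CategoryTheory.Monoidal.Cartesian.Over
import Mathlib.CategoryTheory.Monoidal.Grp

/-!
Geometrically reduced subschemes of groups over a field which contain all separable points are subgroups.
-/

universe u

open scoped TensorProduct
open CategoryTheory CategoryTheory.Limits AlgebraicGeometry MonoidalCategory CartesianMonoidalCategory MonObj GrpObj

set_option linter.style.haveILetI false
set_option backward.isDefEq.respectTransparency false

noncomputable section

namespace Groth.Agent.GeomRed21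

variable {k : Type u} [Field k]

theorem geometricallyReduced_prod {A B : Scheme.{u}} (a : A ⟶ Spec (CommRingCat.of k))
    (b : B ⟶ Spec (CommRingCat.of k)) [GeometricallyReduced a] [GeometricallyReduced b]
    [LocallyOfFiniteType b] : GeometricallyReduced (pullback.fst a b ≫ a) := by
  refine ⟨fun K _ y W fst snd hpb => ?_⟩
  suffices IsReduced (pullback (pullback.fst a b ≫ a) y) from isReduced_of_isOpenImmersion hpb.isoPullback.hom
  haveI : IsReduced (pullback b y) :=
    GeometricallyReduced.geometrically_isReduced _ _ _ (IsPullback.of_hasPullback b y)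
  haveI : IsLocallyNoetherian (pullback b y) :=
    LocallyOfFiniteType.isLocallyNoetherian (pullback.snd b y)
  let e : pullback (pullback.fst a b ≫ a) y ≅ pullback a (pullback.fst b y ≫ b) :=
    pullback.congrHom pullback.condition rfl ≪≫ pullbackAssoc a b b y
  exact isReduced_of_isOpenImmersion e.hom

variable {G Z : Over (Spec (CommRingCat.of k))} [GrpObj G] [LocallyOfFiniteType G.hom] (z : Z ⟶ G)
  [IsClosedImmersion z.left] [GeometricallyReduced Z.hom]

theorem exists_lift_over (hz : ContainsPts G.hom z.left) {W : Over (Spec (CommRingCat.of k))} [IsReduced W.left]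
    [GeometricallyReduced W.hom] (h : W ⟶ G) : ∃ l : W ⟶ Z, l ≫ z = h := by
  haveI : GeometricallyReduced (h.left ≫ G.hom) := by rw [Over.w h]; infer_instance
  obtain ⟨l, hl⟩ := exists_lift hz h.left
  exact ⟨Over.homMk l (by rw [← Over.w z, reassoc_of% hl, Over.w h]), Over.OverMorphism.ext hl⟩

instance : Algebra.IsGeometricallyReduced k k := by
  rw [Algebra.isGeometricallyReduced_field_iff]
  exact isReduced_of_injective (Algebra.TensorProduct.rid k k (AlgebraicClosure k))
    (Algebra.TensorProduct.rid k k (AlgebraicClosure k)).injective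

theorem exists_grpObj (hz : ContainsPts G.hom z.left) : ∃ inst : GrpObj Z, IsMonHom z := by
  haveI : LocallyOfFiniteType Z.hom := by rw [← Over.w z]; infer_instance
  haveI : IsReduced Z.left := isReduced_of_geometricallyReduced Z.hom
  haveI : GeometricallyReduced (Z ⊗ Z).hom := geometricallyReduced_prod Z.hom Z.hom
  haveI : LocallyOfFiniteType (Z ⊗ Z).hom :=
    inferInstanceAs (LocallyOfFiniteType (pullback.fst Z.hom Z.hom ≫ Z.hom))
  haveI : IsReduced (Z ⊗ Z).left := isReduced_of_geometricallyReduced (Z ⊗ Z).hom
  haveI : IsReduced (𝟙_ (Over (Spec (CommRingCat.of k)))).left :=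
    inferInstanceAs (IsReduced (Spec (CommRingCat.of k)))
  haveI : GeometricallyReduced (𝟙_ (Over (Spec (CommRingCat.of k)))).hom :=
    geometricallyReduced_of_dense _ (fun w => subset_closure (show GRPt (𝟙 _) w from
      gRPt_specField k (f := 𝟙 _) (𝟙 _) (by rw [Category.comp_id]; exact (Spec.map_id _).symm) w))
  obtain ⟨m, hm⟩ := exists_lift_over z hz ((z ⊗ₘ z) ≫ μ[G])
  obtain ⟨e, he⟩ := exists_lift_over z hz η[G]
  obtain ⟨i, hi⟩ := exists_lift_over z hz (z ≫ ι[G])
  haveI : Mono z := (Over.forget _).mono_of_mono_map (inferInstanceAs (Mono z.left))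
  let M : MonObj Z :=
    { one := e
      mul := m
      one_mul := by
        rw [← cancel_mono z, Category.assoc, hm, ← Category.assoc]
        simp [MonoidalCategory.whiskerRight_comp_tensorHom, he, ← MonoidalCategory.tensorHom_def]
      mul_one := by
        rw [← cancel_mono z, Category.assoc, hm, ← Category.assoc]
        simp [MonoidalCategory.whiskerLeft_comp_tensorHom, he, ← MonoidalCategory.tensorHom_def']
      mul_assoc := by
        rw [← cancel_mono z]
        simp only [Category.assoc, hm]
        rw [← Category.assoc, ← Category.assoc (Z ◁ m), MonoidalCategory.whiskerRight_comp_tensorHom,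
          MonoidalCategory.whiskerLeft_comp_tensorHom, hm]
        rw [← MonoidalCategory.tensorHom_comp_whiskerRight (z ⊗ₘ z), ← MonoidalCategory.tensorHom_comp_whiskerLeft, Category.assoc,
          Category.assoc, MonObj.mul_assoc, MonoidalCategory.associator_naturality_assoc] }
  refine ⟨{ M with inv := i, left_inv := ?_, right_inv := ?_ }, ⟨?_, ?_⟩⟩
  · show _ ≫ m = toUnit Z ≫ e
    rw [← cancel_mono z, Category.assoc, hm, ← Category.assoc, lift_map, hi, Category.id_comp]
    simp [he]
  · show _ ≫ m = toUnit Z ≫ e
    rw [← cancel_mono z, Category.assoc, hm, ← Category.assoc, lift_map, hi, Category.id_comp]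
    simp [he]
  · exact he
  · exact hm

end Groth.Agent.GeomRed21

end
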