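import Groth.Agent.Lib.GeomRed21.Algebra
import Mathlib.AlgebraicGeometry.Geometrically.Reduced
import Mathlib.AlgebraicGeometry.Group.Smooth
import Mathlib.AlgebraicGeometry.Morphisms.Flat
import Mathlib.AlgebraicGeometry.Morphisms.ClosedImmersion

/-!
The geometrically reduced closed subscheme of a scheme over a field spanned by the points with geometrically
reduced residue field.
-/

universe u

open CategoryTheory CategoryTheory.Limits AlgebraicGeometry TopologicalSpace TensorProduct

set_option linter.style.haveILetI false

noncomputable section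

namespace Groth.Agent.GeomRed21

variable {k : Type u} [Field k] {X Y : Scheme.{u}}

/-- the algebra structure of a residue field -/
abbrev resAlgebra (f : X ⟶ Spec (CommRingCat.of k)) (x : X) : Algebra k (X.residueField x) :=
  (Spec.preimage (X.fromSpecResidueField x ≫ f)).hom.toAlgebra

/-- points with geometrically reduced residue field -/
def GRPt (f : X ⟶ Spec (CommRingCat.of k)) (x : X) : Prop :=
  @Algebra.IsGeometricallyReduced k (X.residueField x) _ _ (resAlgebra f x)

theorem resAlgebra_comp (g : X ⟶ Y) {f : Y ⟶ Spec (CommRingCat.of k)} {h : X ⟶ Spec (CommRingCat.of k)}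
    (hg : g ≫ f = h) (x : X) :
    Spec.preimage (X.fromSpecResidueField x ≫ h) =
      Spec.preimage (Y.fromSpecResidueField (g x) ≫ f) ≫ g.residueFieldMap x := by
  apply Spec.map_injective
  rw [Spec.map_comp, Spec.map_preimage, Spec.map_preimage, ← hg,
    g.SpecMap_residueFieldMap_fromSpecResidueField_assoc]

theorem gRPt_image (g : X ⟶ Y) {f : Y ⟶ Spec (CommRingCat.of k)} {h : X ⟶ Spec (CommRingCat.of k)}
    (hg : g ≫ f = h) {x : X} (hx : GRPt h x) : GRPt f (g x) := by
  letI := resAlgebra f (g x)
  letI := resAlgebra h x
  haveI : Algebra.IsGeometricallyReduced k (X.residueField x) := hx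
  let φ : Y.residueField (g x) →ₐ[k] X.residueField x :=
    { (g.residueFieldMap x).hom with
      commutes' := fun a => (congrArg (fun q : CommRingCat.of k ⟶ X.residueField x => q.hom a)
        (resAlgebra_comp g hg x)).symm }
  exact Algebra.IsGeometricallyReduced.of_injective φ (RingHom.injective _)

theorem gRPt_of_closedImmersion (g : X ⟶ Y) [IsClosedImmersion g] {f : Y ⟶ Spec (CommRingCat.of k)}
    {h : X ⟶ Spec (CommRingCat.of k)} (hg : g ≫ f = h) {x : X} (hx : GRPt f (g x)) : GRPt h x := by
  letI := resAlgebra f (g x)
  letI := resAlgebra h x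
  haveI : Algebra.IsGeometricallyReduced k (Y.residueField (g x)) := hx
  have hb : Function.Bijective (g.residueFieldMap x).hom := by
    refine ⟨RingHom.injective _, fun a => ?_⟩
    obtain ⟨b, rfl⟩ := X.residue_surjective x a
    obtain ⟨c, rfl⟩ := g.stalkMap_surjective x b
    exact ⟨Y.residue (g x) c, congrArg (fun q : Y.presheaf.stalk (g x) ⟶ X.residueField x => q.hom c)
      (Scheme.residue_residueFieldMap g x)⟩
  let φ : Y.residueField (g x) ≃ₐ[k] X.residueField x :=
    { RingEquiv.ofBijective _ hb with
      commutes' := fun a => (congrArg (fun q : CommRingCat.of k ⟶ X.residueField x => q.hom a)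
        (resAlgebra_comp g hg x)).symm }
  exact Algebra.IsGeometricallyReduced.of_injective φ.symm.toAlgHom φ.symm.injective

theorem gRPt_specField (k' : Type u) [Field k'] [Algebra k k'] [Algebra.IsGeometricallyReduced k k']
    {f : X ⟶ Spec (CommRingCat.of k)} (x : Spec (CommRingCat.of k') ⟶ X)
    (hx : x ≫ f = Spec.map (CommRingCat.ofHom (algebraMap k k'))) (p : Spec (CommRingCat.of k')) : GRPt f (x p) := by
  obtain rfl : p = IsLocalRing.closedPoint k' := Subsingleton.elim (α := PrimeSpectrum k') _ _
  set q := Scheme.SpecToEquivOfField k' X x with hq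
  have e : Spec.map q.2 ≫ X.fromSpecResidueField q.1 = x := (Scheme.SpecToEquivOfField k' X).symm_apply_apply x
  letI := resAlgebra f q.1
  let φ : X.residueField q.1 →ₐ[k] k' :=
    { q.2.hom with
      commutes' := fun a => by
        have h : CommRingCat.ofHom (algebraMap k k') = Spec.preimage (X.fromSpecResidueField q.1 ≫ f) ≫ q.2 := by
          apply Spec.map_injective
          rw [Spec.map_comp, Spec.map_preimage, ← Category.assoc, e, hx]
        exact (congrArg (fun q : CommRingCat.of k ⟶ CommRingCat.of k' => q.hom a) h).symm }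
  exact (Algebra.IsGeometricallyReduced.of_injective φ (RingHom.injective _) : GRPt f q.1)

/-- residue fields of an affine scheme over `k` -/
theorem exists_residueField_algEquiv {A : CommRingCat.{u}} [Algebra k A] {g : Spec A ⟶ Spec (CommRingCat.of k)}
    (hA : Spec.map (CommRingCat.ofHom (algebraMap k A)) = g) (p : Spec A) :
    Nonempty (@AlgEquiv k p.asIdeal.ResidueField ((Spec A).residueField p) _ _ _ _ (resAlgebra g p)) := by
  letI := resAlgebra g p
  refine ⟨{ (Scheme.Spec.residueFieldIso A p).symm.commRingCatIsoToRingEquiv with commutes' := fun a => ?_ }⟩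
  have h : CommRingCat.ofHom (algebraMap k p.asIdeal.ResidueField) ≫ (Scheme.Spec.residueFieldIso A p).inv =
      Spec.preimage ((Spec A).fromSpecResidueField p ≫ g) := by
    apply Spec.map_injective
    rw [Spec.map_preimage, Spec.map_comp, IsScalarTower.algebraMap_eq k A p.asIdeal.ResidueField,
      CommRingCat.ofHom_comp, Spec.map_comp, hA, ← Category.assoc,
      Scheme.Spec.map_residueFieldIso_inv_eq_fromSpecResidueField A p]
  exact congrArg (fun q : CommRingCat.of k ⟶ (Spec A).residueField p => q.hom a) h

/-- a reduced scheme whose points with geometrically reduced residue field are dense is geometrically reduced -/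
theorem geometricallyReduced_of_dense [IsReduced X] (f : X ⟶ Spec (CommRingCat.of k))
    (h : Dense {x : X | GRPt f x}) : GeometricallyReduced f := by
  refine ⟨fun K _ y W fst snd hpb => ?_⟩
  suffices IsReduced (pullback f y) from isReduced_of_isOpenImmersion hpb.isoPullback.hom
  apply +allowSynthFailures @IsReduced.of_openCover (𝒰 := Scheme.Pullback.openCoverOfLeft X.affineCover f y)
  intro i
  show IsReduced (pullback (X.affineCover.f i ≫ f) y)
  let A := Γ(X.affineCover.X i, ⊤)
  let g : Spec A ⟶ X := (X.affineCover.X i).isoSpec.inv ≫ X.affineCover.f i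
  letI : Algebra k A := (Spec.preimage (g ≫ f)).hom.toAlgebra
  have hA : Spec.map (CommRingCat.ofHom (algebraMap k A)) = g ≫ f := Spec.map_preimage _
  haveI : IsReduced (X.affineCover.X i) := isReduced_of_isOpenImmersion (X.affineCover.f i)
  haveI : Algebra.IsGeometricallyReduced k A := by
    let s : Set (PrimeSpectrum A) := {p | GRPt f (g p)}
    have hs : Dense s := h.preimage g.isOpenEmbedding.isOpenMap
    let M : s → Type u := fun p => X.residueField (g p.1)
    letI : ∀ p, Algebra k (M p) := fun p => resAlgebra f (g p.1)
    haveI : ∀ p, Algebra.IsGeometricallyReduced k (M p) := fun p => p.2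
    let inst := fun (p : Spec A) => resAlgebra (g ≫ f) p
    have hp : ∀ p : s, @Algebra.IsGeometricallyReduced k p.1.asIdeal.ResidueField _ _ _ := fun p => by
      have h1 : GRPt (g ≫ f) p.1 := by
        letI := resAlgebra f (g p.1)
        letI := resAlgebra (g ≫ f) p.1
        haveI : Algebra.IsGeometricallyReduced k (X.residueField (g p.1)) := p.2
        let φ : X.residueField (g p.1) ≃ₐ[k] (Spec A).residueField p.1 :=
          { (asIso (g.residueFieldMap p.1)).commRingCatIsoToRingEquiv with
            commutes' := fun a => (congrArg (fun q : CommRingCat.of k ⟶ (Spec A).residueField p.1 => q.hom a)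
              (resAlgebra_comp g rfl p.1)).symm }
        exact Algebra.IsGeometricallyReduced.of_injective φ.symm.toAlgHom φ.symm.injective
      letI := resAlgebra (g ≫ f) p.1
      haveI : Algebra.IsGeometricallyReduced k ((Spec A).residueField p.1) := h1
      obtain ⟨e⟩ := exists_residueField_algEquiv hA p.1
      exact Algebra.IsGeometricallyReduced.of_injective e.toAlgHom e.injective
    haveI := hp
    refine isGeometricallyReduced_of_jointly_injective
      (fun p : s => IsScalarTower.toAlgHom k A p.1.asIdeal.ResidueField) fun a ha => ?_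
    have hdense : s ⊆ PrimeSpectrum.zeroLocus {a} := fun p hp' => by
      rw [PrimeSpectrum.mem_zeroLocus, Set.singleton_subset_iff]
      exact Ideal.algebraMap_residueField_eq_zero.1 (ha ⟨p, hp'⟩)
    have hall := closure_minimal hdense (PrimeSpectrum.isClosed_zeroLocus _)
    rw [hs.closure_eq, Set.univ_subset_iff, PrimeSpectrum.zeroLocus_eq_univ_iff, Set.singleton_subset_iff] at hall
    exact IsReduced.eq_zero a (mem_nilradical.1 hall)
  letI : Algebra k K := (Spec.preimage y).hom.toAlgebra
  have hK : Spec.map (CommRingCat.ofHom (algebraMap k K)) = y := Spec.map_preimage _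
  haveI := isReduced_tensor_field' (k := k) A K
  let e : pullback (X.affineCover.f i ≫ f) y ≅ Spec (CommRingCat.of (A ⊗[k] K)) :=
    asIso (pullback.map _ _ (Spec.map (CommRingCat.ofHom (algebraMap k A))) (Spec.map (CommRingCat.ofHom (algebraMap k K)))
      (X.affineCover.X i).isoSpec.hom (𝟙 _) (𝟙 _) (by simp [hA, g]) (by simp [hK])) ≪≫ pullbackSpecIso k A K
  exact isReduced_of_isOpenImmersion e.hom

/-- the points with geometrically reduced residue field are dense in a geometrically reduced scheme -/
theorem dense_gRPt (f : X ⟶ Spec (CommRingCat.of k)) [GeometricallyReduced f] :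
    Dense {x : X | GRPt f x} := by
  intro x
  obtain ⟨_, ⟨V, hV, rfl⟩, hxV, -⟩ := X.isBasis_affineOpens.exists_subset_of_mem_open (Set.mem_univ x) isOpen_univ
  let A := Γ(X, V)
  let g : Spec A ⟶ X := hV.fromSpec
  letI : Algebra k A := (Spec.preimage (g ≫ f)).hom.toAlgebra
  have hA : Spec.map (CommRingCat.ofHom (algebraMap k A)) = g ≫ f := Spec.map_preimage _
  haveI : Algebra.IsGeometricallyReduced k A := by
    rw [Algebra.isGeometricallyReduced_field_iff]
    let y : Spec (CommRingCat.of (AlgebraicClosure k)) ⟶ Spec (CommRingCat.of k) :=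
      Spec.map (CommRingCat.ofHom (algebraMap k (AlgebraicClosure k)))
    haveI : IsReduced (pullback f y) :=
      GeometricallyReduced.geometrically_isReduced _ _ _ (IsPullback.of_hasPullback f y)
    haveI : IsReduced (pullback (g ≫ f) y) :=
      isReduced_of_isOpenImmersion ((pullbackRightPullbackFstIso f y g).inv ≫ pullback.snd g (pullback.fst f y))
    let e : pullback (g ≫ f) y ≅ Spec (CommRingCat.of (A ⊗[k] AlgebraicClosure k)) :=
      pullback.congrHom hA.symm rfl ≪≫ pullbackSpecIso k A (AlgebraicClosure k)
    haveI : IsReduced (Spec (CommRingCat.of (A ⊗[k] AlgebraicClosure k))) := isReduced_of_isOpenImmersion e.inv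
    haveI : _root_.IsReduced (A ⊗[k] AlgebraicClosure k) :=
      (affine_isReduced_iff (CommRingCat.of (A ⊗[k] AlgebraicClosure k))).1 inferInstance
    exact isReduced_of_injective (Algebra.TensorProduct.comm k (AlgebraicClosure k) A)
      (Algebra.TensorProduct.comm k (AlgebraicClosure k) A).injective
  obtain ⟨p, hp⟩ : x ∈ Set.range g := by rw [IsAffineOpen.range_fromSpec]; exact hxV
  obtain ⟨q, hq, hqp⟩ := Ideal.exists_minimalPrimes_le (I := (⊥ : Ideal A)) (J := p.asIdeal) bot_le
  haveI : q.IsPrime := hq.1.1
  let η : Spec A := ⟨q, hq.1.1⟩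
  suffices h : GRPt f (g η) by
    refine mem_closure_iff.2 fun O hO hxO => ⟨g η, ?_, h⟩
    have hsp : η ⤳ p := (PrimeSpectrum.le_iff_specializes η p).1 hqp
    rw [← hp] at hxO
    exact (hsp.map g.continuous).mem_open hO hxO
  refine gRPt_image g rfl (?_ : GRPt (g ≫ f) η)
  haveI : _root_.IsReduced A := Algebra.isReduced_of_isGeometricallyReduced k
  haveI : IsScalarTower k A (Localization.AtPrime q) := inferInstance
  haveI : Algebra.IsGeometricallyReduced k (Localization.AtPrime q) :=
    isGeometricallyReduced_of_isLocalization q.primeCompl _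
  letI := resAlgebra (g ≫ f) η
  obtain ⟨e⟩ := exists_residueField_algEquiv hA η
  let φ : Localization.AtPrime q →ₐ[k] q.ResidueField :=
    IsScalarTower.toAlgHom k (Localization.AtPrime q) q.ResidueField
  have hφ : Function.Bijective φ := by
    refine ⟨(injective_iff_map_eq_zero φ).2 fun z hz => ?_, Ideal.Quotient.mk_surjective⟩
    have hm : z ∈ IsLocalRing.maximalIdeal (Localization.AtPrime q) := Ideal.Quotient.eq_zero_iff_mem.1 hz
    haveI : _root_.IsReduced (Localization.AtPrime q) := Algebra.isReduced_of_isGeometricallyReduced k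
    refine IsNilpotent.eq_zero (nilpotent_iff_mem_prime.2 fun P hP => ?_)
    suffices P = IsLocalRing.maximalIdeal (Localization.AtPrime q) by rwa [this]
    have hle : P.comap (algebraMap A (Localization.AtPrime q)) ≤ q :=
      (Ideal.comap_mono (IsLocalRing.le_maximalIdeal hP.ne_top)).trans
        (le_of_eq (Localization.AtPrime.comap_maximalIdeal (I := q)))
    have heq : P.comap (algebraMap A (Localization.AtPrime q)) = q :=
      le_antisymm hle (hq.2 ⟨Ideal.IsPrime.comap _, bot_le⟩ hle)
    rw [← IsLocalization.map_comap q.primeCompl (Localization.AtPrime q) P,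
      show Ideal.under A P = q from heq, Localization.AtPrime.map_eq_maximalIdeal]
  haveI : Algebra.IsGeometricallyReduced k q.ResidueField :=
    Algebra.IsGeometricallyReduced.of_injective (AlgEquiv.ofBijective φ hφ).symm.toAlgHom
      (AlgEquiv.ofBijective φ hφ).symm.injective
  exact Algebra.IsGeometricallyReduced.of_injective e.symm.toAlgHom e.symm.injective

end Groth.Agent.GeomRed21

end
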