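import Groth.Agent.Lib.GeomRed21.Scheme
import Groth.Agent.Lib.RedSep.Basic

/-!
The largest geometrically reduced closed subscheme and the smallest one containing all separable points.
-/

universe u

open CategoryTheory CategoryTheory.Limits AlgebraicGeometry TopologicalSpace

set_option linter.style.haveILetI false

noncomputable section

namespace Groth.Agent.GeomRed21

variable {k : Type u} [Field k] {X : Scheme.{u}}

/-- every point with values in a geometrically reduced field lifts -/
def ContainsPts (f : X ⟶ Spec (CommRingCat.of k)) {Z : Scheme.{u}} (z : Z ⟶ X) : Prop :=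
  ∀ (k' : Type u) [Field k'] [Algebra k k'] [Algebra.IsGeometricallyReduced k k']
    (x : Spec (CommRingCat.of k') ⟶ X), x ≫ f = Spec.map (CommRingCat.ofHom (algebraMap k k')) →
    ∃ y : Spec (CommRingCat.of k') ⟶ Z, y ≫ z = x

theorem containsPts_mem {f : X ⟶ Spec (CommRingCat.of k)} {Z : Scheme.{u}} {z : Z ⟶ X} (hz : ContainsPts f z)
    {x : X} (hx : GRPt f x) : x ∈ Set.range z := by
  letI := resAlgebra f x
  haveI : Algebra.IsGeometricallyReduced k (X.residueField x) := hx
  obtain ⟨y, hy⟩ := hz (X.residueField x) (X.fromSpecResidueField x) (Spec.map_preimage _).symm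
  exact ⟨y (IsLocalRing.closedPoint _), by
    rw [← Scheme.Hom.comp_apply, hy]; exact Scheme.fromSpecResidueField_apply _ _⟩

/-- a geometrically reduced scheme factors through anything containing all separable points -/
theorem exists_lift {f : X ⟶ Spec (CommRingCat.of k)} {Z : Scheme.{u}} {z : Z ⟶ X} [IsClosedImmersion z]
    (hz : ContainsPts f z) {W : Scheme.{u}} [IsReduced W] (h : W ⟶ X) [GeometricallyReduced (h ≫ f)] :
    ∃ l : W ⟶ Z, l ≫ z = h := by
  refine RedSepLib.exists_lift_of_range_subset h z ?_
  rintro _ ⟨w, rfl⟩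
  have hcl : IsClosed (h ⁻¹' Set.range z) := z.isClosedEmbedding.isClosed_range.preimage h.continuous
  have hsub : {w : W | GRPt (h ≫ f) w} ⊆ h ⁻¹' Set.range z := fun w hw => containsPts_mem hz (gRPt_image h rfl hw)
  exact closure_minimal hsub hcl (dense_gRPt (h ≫ f) w)

theorem isReduced_of_geometricallyReduced (f : X ⟶ Spec (CommRingCat.of k)) [GeometricallyReduced f]
    [LocallyOfFiniteType f] : IsReduced X :=
  GeometricallyReduced.isReduced_of_flat_of_isLocallyNoetherian f

/-- the locus -/
def locus (f : X ⟶ Spec (CommRingCat.of k)) : X.IdealSheafData :=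
  Scheme.IdealSheafData.vanishingIdeal (Closeds.closure {x : X | GRPt f x})

theorem range_locus (f : X ⟶ Spec (CommRingCat.of k)) :
    Set.range (locus f).subschemeι = closure {x : X | GRPt f x} := by
  rw [Scheme.IdealSheafData.range_subschemeι, locus, Scheme.IdealSheafData.coe_support_vanishingIdeal]
  rfl

theorem containsPts_locus (f : X ⟶ Spec (CommRingCat.of k)) : ContainsPts f (locus f).subschemeι := by
  intro k' _ _ _ x hx
  refine RedSepLib.exists_lift_of_range_subset x _ ?_
  rintro _ ⟨p, rfl⟩
  rw [range_locus]
  exact subset_closure (gRPt_specField k' x hx p)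

theorem geometricallyReduced_locus (f : X ⟶ Spec (CommRingCat.of k)) :
    GeometricallyReduced ((locus f).subschemeι ≫ f) := by
  haveI : IsReduced (locus f).subscheme := RedSepLib.isReduced_vanishingIdeal_subscheme _
  refine geometricallyReduced_of_dense _ (fun w => ?_)
  rw [(locus f).subschemeι.isClosedEmbedding.isInducing.closure_eq_preimage_closure_image]
  show (locus f).subschemeι w ∈ closure _
  have hw : (locus f).subschemeι w ∈ closure {x : X | GRPt f x} := range_locus f ▸ ⟨w, rfl⟩
  refine closure_mono ?_ hw
  intro x hx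
  obtain ⟨v, rfl⟩ : x ∈ Set.range (locus f).subschemeι := range_locus f ▸ subset_closure hx
  exact ⟨v, gRPt_of_closedImmersion _ rfl hx, rfl⟩

end Groth.Agent.GeomRed21

end
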